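import Groth.Agent.ModEtQcLib.ProjSec
import Groth.Agent.QCohLib.Affine

/-!
# The Zariski companion of a quasi-coherent module with small sections on a chart
-/

set_option autoImplicit false
set_option backward.isDefEq.respectTransparency false
set_option backward.isDefEq.respectTransparency.types false
universe u
open CategoryTheory CategoryTheory.Limits AlgebraicGeometry Opposite AlgSp TopologicalSpace
open scoped TensorProduct

noncomputable section

namespace ProjPullEtLib

open ModEtQc

variable {S : Scheme.{u}} {X : Sp S} {U : Over S} {p : (yon S).obj U ⟶ X} (hp : RepWith @Etale p)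

/-- Inclusion of opens of a chart. -/
def chartLE {W W' : U.left.Opens} (h : W' ≤ W) : chartObj hp W' ⟶ chartObj hp W :=
  (EtOver.postcomp p (AlgSpLib.isEtaleMor_of_repWith hp)).map ((EtOver.ofScheme U).map (etaleOfLE h))

theorem chartLE_left {W W' : U.left.Opens} (h : W' ≤ W) : (chartLE hp h).hom.left.left = U.left.homOfLE h := rfl

theorem chart_ext {E : EtOver X} {W : U.left.Opens} {a b : E ⟶ chartObj hp W}
    (h : a.hom.left.left ≫ W.ι = b.hom.left.left ≫ W.ι) : a = b := by
  refine InducedCategory.Hom.ext (CostructuredArrow.hom_ext _ _ (Over.OverMorphism.ext ?_))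
  haveI : Mono W.ι := inferInstance
  exact (cancel_mono W.ι).1 h

theorem chartLE_comp {W W' W'' : U.left.Opens} (h : W' ≤ W) (h' : W'' ≤ W') :
    chartLE hp h' ≫ chartLE hp h = chartLE hp (W := W) (W' := W'') (le_trans h' h) :=
  chart_ext hp (by
    change (U.left.homOfLE h' ≫ U.left.homOfLE h) ≫ W.ι = U.left.homOfLE (le_trans h' h) ≫ W.ι
    rw [Scheme.homOfLE_homOfLE])

theorem chartLE_refl (W : U.left.Opens) : chartLE hp (le_refl W) = 𝟙 _ :=
  chart_ext hp (by
    change U.left.homOfLE (le_refl W) ≫ W.ι = 𝟙 _ ≫ W.ι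
    simp)

theorem rho_chartRing {W W' : U.left.Opens} (h : W' ≤ W) (a : Γ(U.left, W)) :
    rho (chartLE hp h) (chartRing hp W a) = chartRing hp W' (U.left.presheaf.map (homOfLE h).op a) := by
  refine ULift.ext _ _ ?_
  change (U.left.homOfLE h).appTop (W.topIso.inv a) = W'.topIso.inv (U.left.presheaf.map (homOfLE h).op a)
  simp only [← CommRingCat.comp_apply]
  congr 1
  simp [Scheme.Opens.topIso, ← Functor.map_comp]

variable (F : ModEt X)

theorem small_sec (hsmall : ∀ E : EtOver X, IsAffine E.obj.left.left → Small.{u} (sec F E)) (E : EtOver X) :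
    Small.{u} (sec F E) := by
  obtain ⟨ι, Y, g, hY, hcov⟩ := exists_affine_cover E
  haveI := fun i => hsmall (Y i) (hY i)
  exact small_of_injective (f := fun (x : sec F E) (i : ι) => res F (g i) x)
    fun x y h => eq_of_cover F Y g hcov x y fun i => congrFun h i

variable [hsm : ∀ W : U.left.Opens, Small.{u} (sec F (chartObj hp W))]

/-- Small sections. -/
abbrev Sh (W : U.left.Opens) : Type u := Shrink.{u} (sec F (chartObj hp W))

/-- Comparison. -/
def eps (W : U.left.Opens) : Sh hp F W ≃+ sec F (chartObj hp W) :=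
  (Shrink.addEquiv (α := sec F (chartObj hp W)))

@[reducible] def actInst (W : U.left.Opens) : SMul Γ(U.left, W) (Sh hp F W) :=
  ⟨fun a x => (eps hp F W).symm (chartRing hp W a • eps hp F W x)⟩

@[reducible] def modInst (W : U.left.Opens) : Module Γ(U.left, W) (Sh hp F W) :=
  letI : Module Γ(U.left, W) (sec F (chartObj hp W)) := Module.compHom _ (chartRing hp W).toRingHom
  letI := actInst hp F W
  Function.Injective.module _ (eps hp F W).toAddMonoidHom (eps hp F W).injective fun a x =>
    (eps hp F W).apply_symm_apply _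

theorem eps_smul (W : U.left.Opens) (a : Γ(U.left, W)) (x : Sh hp F W) :
    letI := modInst hp F W
    eps hp F W (a • x) = chartRing hp W a • eps hp F W x := (eps hp F W).apply_symm_apply _

/-- The presheaf. -/
def zarAb : (U.left.Opens)ᵒᵖ ⥤ AddCommGrpCat.{u} where
  obj W := AddCommGrpCat.of (Sh hp F W.unop)
  map {V W} i := AddCommGrpCat.ofHom
    ((eps hp F W.unop).symm.toAddMonoidHom.comp
      ((res F (chartLE hp (leOfHom i.unop))).comp (eps hp F V.unop).toAddMonoidHom))
  map_id V := by
    refine AddCommGrpCat.hom_ext (AddMonoidHom.ext fun x => ?_)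
    change (eps hp F V.unop).symm (res F (chartLE hp _) (eps hp F V.unop x)) = x
    rw [res_congr F (chartLE_refl hp V.unop)]
    refine Eq.trans ?_ ((eps hp F V.unop).symm_apply_apply x)
    exact congrArg _ (congrArg (fun φ => φ (eps hp F V.unop x)) (F.val.presheaf.map_id _))
  map_comp {A B C} i j := by
    refine AddCommGrpCat.hom_ext (AddMonoidHom.ext fun x => ?_)
    change (eps hp F C.unop).symm (res F _ (eps hp F A.unop x)) = (eps hp F C.unop).symm (res F _ (eps hp F B.unop
      ((eps hp F B.unop).symm (res F _ (eps hp F A.unop x)))))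
    rw [AddEquiv.apply_symm_apply, ← res_comp]
    exact congrArg _ (res_congr F (chartLE_comp hp _ _).symm _)

theorem zarAb_map_eps {V W : U.left.Opens} (h : W ≤ V) (x : Sh hp F V) :
    eps hp F W ((zarAb hp F).map (homOfLE h).op x) = res F (chartLE hp h) (eps hp F V x) :=
  (eps hp F W).apply_symm_apply _

/-- The presheaf of modules. -/
def zarPre : PresheafOfModules.{u} U.left.ringCatSheaf.obj :=
  letI : ∀ W : (U.left.Opens)ᵒᵖ, Module (U.left.ringCatSheaf.obj.obj W) ((zarAb hp F).obj W) := fun W =>
    modInst hp F W.unop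
  PresheafOfModules.ofPresheaf (R := U.left.ringCatSheaf.obj) (zarAb hp F) fun V W i r x => by
    refine (eps hp F W.unop).injective ?_
    refine (zarAb_map_eps hp F (leOfHom i.unop) _).trans ?_
    refine (congrArg (res F _) (eps_smul hp F V.unop r x)).trans ?_
    refine (res_smul F _ _ _).trans ?_
    refine Eq.trans ?_ (eps_smul hp F W.unop _ _).symm
    exact congr (congrArg HSMul.hSMul (rho_chartRing hp (leOfHom i.unop) r))
      (zarAb_map_eps hp F (leOfHom i.unop) x).symm

theorem isSheaf_zarAb : TopCat.Presheaf.IsSheaf (X := U.left.toTopCat) (zarAb hp F) := by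
  rw [TopCat.Presheaf.isSheaf_iff_isSheafUniqueGluing]
  intro ι (V : ι → U.left.Opens) sf hsf
  let g : ∀ i, chartObj hp (V i) ⟶ chartObj hp (iSup V) := fun i => chartLE hp (le_iSup V i)
  have hcov : ∀ x : (chartObj hp (iSup V)).obj.left.left, ∃ i, x ∈ Set.range (g i).hom.left.left := fun x => by
    let y : (↑(iSup V) : Scheme.{u}) := x
    obtain ⟨i, hi⟩ := Opens.mem_iSup.1 y.2
    refine ⟨i, (⟨_, hi⟩ : V i), ?_⟩
    apply (iSup V).ι.isOpenEmbedding.injective
    exact congrArg (fun φ => φ (⟨_, hi⟩ : V i)) (U.left.homOfLE_ι (le_iSup V i))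
  obtain ⟨t, ht⟩ := exists_glue_sec F (fun i => chartObj hp (V i)) g hcov (fun i => eps hp F (V i) (sf i))
    fun i j => by
      set a := EtOver.pullbackFst (g i) (g j) with ha
      set b := EtOver.pullbackSnd (g i) (g j) with hb
      have w : a ≫ g i = b ≫ g j := EtOver.pullback_condition _ _
      have w' : a.hom.left.left ≫ (V i).ι = b.hom.left.left ≫ (V j).ι := by
        have := congrArg (fun φ => φ.hom.left.left ≫ (iSup V).ι) w
        change (a.hom.left.left ≫ U.left.homOfLE (le_iSup V i)) ≫ (iSup V).ι =
          (b.hom.left.left ≫ U.left.homOfLE (le_iSup V j)) ≫ (iSup V).ι at this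
        simpa [Category.assoc] using this
      let k₀ := IsOpenImmersion.lift (V i ⊓ V j).ι (a.hom.left.left ≫ (V i).ι) (by
        rintro _ ⟨z, rfl⟩
        rw [Scheme.Opens.range_ι]
        let za : (↑(V i) : Scheme.{u}) := a.hom.left.left z
        let zb : (↑(V j) : Scheme.{u}) := b.hom.left.left z
        have h3 : za.1 = zb.1 := congrArg (fun φ => φ z) w'
        refine ⟨za.2, ?_⟩
        change za.1 ∈ V j
        exact h3 ▸ zb.2)
      have hk₀ : k₀ ≫ U.left.homOfLE inf_le_left = a.hom.left.left := by
        refine (cancel_mono (V i).ι).1 ?_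
        rw [Category.assoc, Scheme.homOfLE_ι]
        exact IsOpenImmersion.lift_fac _ _ _
      let k : _ ⟶ chartObj hp (V i ⊓ V j) := EtOver.homMk
        (Over.homMk k₀ (by
          have e := Over.w a.hom.left
          rw [← hk₀, Category.assoc] at e
          exact (congrArg (k₀ ≫ ·) (Over.w (chartLE hp (inf_le_left : V i ⊓ V j ≤ V i)).hom.left).symm).trans e))
        (by
          have e := CostructuredArrow.w a.hom
          rw [← CostructuredArrow.w (chartLE hp (inf_le_left : V i ⊓ V j ≤ V i)).hom, ← Category.assoc,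
            ← Functor.map_comp]
          refine Eq.trans ?_ e
          congr 2
          exact Over.OverMorphism.ext hk₀)
      have hka : k ≫ chartLE hp inf_le_left = a := chart_ext hp (congrArg (· ≫ (V i).ι) hk₀)
      have hkb : k ≫ chartLE hp inf_le_right = b := chart_ext hp (by
        change (k₀ ≫ U.left.homOfLE (inf_le_right : V i ⊓ V j ≤ V j)) ≫ (V j).ι = _
        rw [Category.assoc, Scheme.homOfLE_ι, IsOpenImmersion.lift_fac]
        exact w')
      rw [← hka, ← hkb, res_comp, res_comp]
      exact congrArg _ ((zarAb_map_eps hp F inf_le_left (sf i)).symm.trans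
        ((congrArg (eps hp F _) (hsf i j)).trans (zarAb_map_eps hp F inf_le_right (sf j))))
  refine ⟨(eps hp F _).symm t, fun i => ?_, fun y hy => ?_⟩
  · refine (eps hp F (V i)).injective ((zarAb_map_eps hp F (le_iSup V i) _).trans ?_)
    rw [AddEquiv.apply_symm_apply]
    exact ht i
  · refine (eps hp F _).injective ?_
    rw [AddEquiv.apply_symm_apply]
    exact eq_of_cover F _ g hcov _ _ fun i =>
      ((zarAb_map_eps hp F (le_iSup V i) y).symm.trans (congrArg (eps hp F _) (hy i))).trans (ht i).symm

/-- The companion module. -/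
def zarMod : U.left.Modules :=
  { val := zarPre hp F
    isSheaf := isSheaf_zarAb hp F }

theorem isQCoh_zarMod (hF : BC F) : Coh.IsQCoh (zarMod hp F) := by
  rw [QCohLib.isQCoh_iff_localizingAt]
  intro W hW f
  haveI hWa : IsAffine (chartObj hp W).obj.left.left := isAffine_chartObj hp hW
  let D := U.left.basicOpen f
  let le := U.left.basicOpen_le f
  haveI hDa : IsAffine (chartObj hp D).obj.left.left := isAffine_chartObj hp (hW.basicOpen f)
  let Z : Over (chartObj hp W) := Over.mk (chartLE hp le)
  haveI hZa : IsAffine Z.left.obj.left.left := hDa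
  have hb := (isTilde_iff_evS F (chartObj hp W)).1 (hF _ hWa) Z hDa
  haveI := hW.isLocalization_basicOpen f
  have halg : ∀ a, algebraMap (Ring (chartObj hp W)) (Ring Z.left) (chartRing hp W a) =
      chartRing hp D (algebraMap Γ(U.left, W) Γ(U.left, D) a) := rho_chartRing hp le
  haveI : IsLocalization (Submonoid.powers (chartRing hp W f)) (Ring Z.left) := by
    refine (isLocalization_iff _ _).2 ⟨?_, ?_, ?_⟩
    · rintro ⟨_, n, rfl⟩
      change IsUnit (algebraMap (Ring (chartObj hp W)) (Ring Z.left) (chartRing hp W f ^ n))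
      rw [map_pow, halg]
      exact ((IsLocalization.Away.algebraMap_isUnit (S := Γ(U.left, D)) f).map (chartRing hp D)).pow n
    · intro z
      obtain ⟨z, rfl⟩ := (chartRing hp D).surjective z
      obtain ⟨⟨a, _, n, rfl⟩, ha⟩ := IsLocalization.surj (Submonoid.powers f) z
      refine ⟨⟨chartRing hp W a, ⟨chartRing hp W f ^ n, n, rfl⟩⟩, ?_⟩
      have := congrArg (chartRing hp D) ha
      rw [map_mul, map_pow, map_pow] at this
      change (show Ring Z.left from chartRing hp D z) * algebraMap (Ring (chartObj hp W)) (Ring Z.left) (chartRing hp W f ^ n) = _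
      rw [map_pow, halg, halg]
      exact this
    · intro x y hxy
      obtain ⟨x, rfl⟩ := (chartRing hp W).surjective x
      obtain ⟨y, rfl⟩ := (chartRing hp W).surjective y
      rw [halg, halg] at hxy
      obtain ⟨⟨_, n, rfl⟩, hc⟩ := IsLocalization.exists_of_eq (M := Submonoid.powers f)
        ((chartRing hp D).injective hxy)
      refine ⟨⟨chartRing hp W f ^ n, n, rfl⟩, ?_⟩
      have := congrArg (chartRing hp W) hc
      simpa [map_mul, map_pow] using this
  haveI : IsLocalizedModule (Submonoid.powers (chartRing hp W f))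
      (TensorProduct.mk (Ring (chartObj hp W)) (Ring Z.left) (sec F (chartObj hp W)) 1) :=
    IsLocalization.tensorProduct_isLocalizedModule ..
  have hev1 : ∀ m, evS F Z ((1 : Ring Z.left) ⊗ₜ m) = res F (chartLE hp le) m := fun m =>
    (evS_tmul F Z 1 m).trans (one_smul _ _)
  refine ⟨fun s => ?_, fun t ht => ?_⟩
  · obtain ⟨y, hy⟩ := hb.2 (eps hp F D s)
    obtain ⟨⟨m, _, n, rfl⟩, hm⟩ := IsLocalizedModule.surj (Submonoid.powers (chartRing hp W f))
      (TensorProduct.mk (Ring (chartObj hp W)) (Ring Z.left) (sec F (chartObj hp W)) 1) y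
    refine ⟨n, (eps hp F W).symm m, ?_⟩
    refine (eps hp F D).injective ?_
    refine (zarAb_map_eps hp F le _).trans ?_
    rw [AddEquiv.apply_symm_apply, ← hev1 m]
    refine Eq.trans ?_ (eps_smul hp F D _ s).symm
    rw [← hy]
    refine (congrArg (evS F Z) hm.symm).trans ?_
    change evS F Z (chartRing hp W f ^ n • y) = _
    rw [← algebraMap_smul (Ring Z.left), projective_sec_map.evS_smul', map_pow, halg, map_pow]
    rfl
  · have h0 : res F (chartLE hp le) (eps hp F W t) = 0 := by
      rw [← zarAb_map_eps hp F le t]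
      exact (congrArg (eps hp F D) ht).trans (map_zero _)
    have h1 : TensorProduct.mk (Ring (chartObj hp W)) (Ring Z.left) (sec F (chartObj hp W)) 1 (eps hp F W t) = 0 :=
      hb.1 (((hev1 _).trans h0).trans (map_zero _).symm)
    obtain ⟨⟨_, n, rfl⟩, hn⟩ := (IsLocalizedModule.eq_zero_iff (Submonoid.powers (chartRing hp W f)) _).1 h1
    refine ⟨n, (eps hp F W).injective ?_⟩
    refine (eps_smul hp F W _ t).trans ?_
    refine Eq.trans ?_ (map_zero (eps hp F W)).symm
    refine Eq.trans ?_ hn
    change chartRing hp W _ • eps hp F W t = (chartRing hp W f ^ n) • eps hp F W t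
    rw [show U.left.presheaf.map (homOfLE le_rfl).op f = f from
      congrArg (fun φ => φ f) (U.left.presheaf.map_id (op W)), map_pow]

variable (hrep : Representable p) [(SheafOfModules.pushforward.{u + 1} (bcRingHom hrep)).IsRightAdjoint]

theorem nonempty_companion :
    Nonempty (ZarCompanion U.left (zarMod hp F) ((resSchModEt U).obj ((pullModEt hrep).obj F))) := by
  let θ := (pullIsoRes (AlgSpLib.isEtaleMor_of_repWith hp) hrep).app F
  let E' := fun W : U.left.Opens => (EtOver.ofScheme U).obj (etaleOfOpen U.left W)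
  have hb : ∀ E, Function.Bijective (appS θ.hom E) := fun E => Function.bijective_iff_has_inverse.2
    ⟨fun y => appS θ.inv E y, fun x => congrArg (fun ψ => appS ψ E x) θ.hom_inv_id,
      fun y => congrArg (fun ψ => appS ψ E y) θ.inv_hom_id⟩
  let L : ∀ W, sec ((pullModEt hrep).obj F) (E' W) ≃+ sec F (chartObj hp W) := fun W =>
    AddEquiv.ofBijective (appS θ.hom (E' W)).toAddMonoidHom (hb (E' W))
  refine ⟨{ iso := fun W => (L W).trans ((eps hp F W).symm.trans (AddEquiv.ulift (α := Sh hp F W)).symm)
            map_smul := fun W a m => ?_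
            map_res := fun {W W'} h m => ?_ }⟩
  · refine congrArg ULift.up ((eps hp F W).injective ?_)
    refine ((eps hp F W).apply_symm_apply _).trans ?_
    refine Eq.trans ?_ (eps_smul hp F W a _).symm
    refine Eq.trans (map_smul (appS θ.hom (E' W)) _ m) ?_
    exact congrArg _ ((eps hp F W).apply_symm_apply _).symm
  · refine congrArg ULift.up ((eps hp F W').injective ?_)
    refine ((eps hp F W').apply_symm_apply _).trans ?_
    refine Eq.trans ?_ (zarAb_map_eps hp F h _).symm
    refine Eq.trans ?_ (congrArg (res F (chartLE hp h)) ((eps hp F W).apply_symm_apply _).symm)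
    exact PresheafOfModules.naturality_apply θ.hom.val ((EtOver.ofScheme U).map (etaleOfLE h)).op m

end ProjPullEtLib
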