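import Groth.Agent.ProjPullEtLib.Companion
import Groth.Agent.ModEtQcLib.PullSec
import Groth.Agent.ModEtQcLib.Pullback
import Groth.Agent.ModEtQcLib.Supp
import Mathlib.RingTheory.TensorProduct.Free

/-!
# Projectivity of the sections of a pullback
-/

set_option autoImplicit false
set_option backward.isDefEq.respectTransparency false
set_option backward.isDefEq.respectTransparency.types false
universe u
open CategoryTheory CategoryTheory.Limits AlgebraicGeometry Opposite AlgSp TopologicalSpace
open scoped TensorProduct

noncomputable section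

namespace ProjPullEtLib

open ModEtQc

variable {S : Scheme.{u}} {X Y : Sp S} {f : X ⟶ Y} (hf : Representable f)
  [(SheafOfModules.pushforward.{u + 1} (bcRingHom hf)).IsRightAdjoint] (G : ModEt Y)

set_option maxHeartbeats 1600000 in
theorem projective_sec_pull (hG : BC G) (E : EtOver Y) [IsAffine E.obj.left.left]
    (h : Module.Projective (Ring E) (sec G E)) (Z : Over ((EtOver.bc hf).obj E))
    [IsAffine Z.left.obj.left.left] :
    Module.Projective (Ring Z.left) (sec ((pullModEt hf).obj G) Z.left) := by
  classical
  let A := Ring E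
  let P := sec G E
  let W := (EtOver.bc hf).obj E
  let M := (pullModEt hf).obj G
  let B := Ring W
  let ρ : A →+* B := bcRho hf E
  obtain ⟨s, hs⟩ := Module.projective_def'.1 h
  let mr : (P →₀ A) →+ (P →₀ B) := Finsupp.mapRange.addMonoidHom ρ.toAddMonoidHom
  have hmr : ∀ (r : A) (c : P →₀ A), mr (r • c) = ρ r • mr c := fun r c => by
    ext x
    simp [mr]
  let N : ModuleCat.{u + 1} B := ModuleCat.of B (P →₀ B)
  let lc : (P →₀ B) →ₗ[B] secP (M.over W).val (top W) :=
    Finsupp.linearCombination B (fun m => (show secP (M.over W).val (top W) from unitS hf G E m))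
  let r : (tildeF W).obj N ⟶ M.over W := ((tildeAdj W).homEquiv N (M.over W)).symm (ModuleCat.ofHom lc)
  let η : N ⟶ (Γt W).obj ((tildeF W).obj N) := (tildeAdj W).unit.app N
  have hrη : ∀ x : P →₀ B, appP r.val (top W) (η x) = lc x := fun x => by
    have e : η ≫ (Γt W).map r = ModuleCat.ofHom lc := ((tildeAdj W).homEquiv_unit N (M.over W) r).symm.trans
      (Equiv.apply_symm_apply _ _)
    exact congrArg (fun φ => φ x) e
  let H : ModEtOn W := (tildeF W).obj N
  let W' := (postBc hf E).obj (top E)
  have hW : W'.hom = 𝟙 _ := (Category.id_comp _).trans ((EtOver.bc hf).map_id E)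
  let ℓ : P →ₗ[A] secP ((pushOver hf E).obj H).val (top E) :=
    { toFun := fun m => resP H.val (toTop W') (η (mr (s m)))
      map_add' := fun a b => by
        refine (congrArg (fun x => resP H.val (toTop W') (η x))
          ((congrArg mr (map_add s a b)).trans (map_add mr _ _))).trans ?_
        exact (congrArg (resP H.val (toTop W')) (map_add η.hom _ _)).trans (map_add _ _ _)
      map_smul' := fun t m => by
        refine Eq.trans ?_ (show (ρ t : Ring W'.left) • resP H.val (toTop W') (η (mr (s m))) = _ from rfl)
        refine ((congrArg (fun x => resP H.val (toTop W') (η x))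
          ((congrArg mr (map_smul s t m)).trans (hmr t (s m)))).trans
          ((congrArg (resP H.val (toTop W')) (map_smul η.hom (ρ t : B) (mr (s m)))).trans (resP_smul H.val _ _ _))).trans
            (congrArg (· • resP H.val (toTop W') (η (mr (s m)))) ?_)
        change rho W'.hom _ = _
        rw [hW]
        exact RingHom.congr_fun (rho_id _) _ }
  haveI hcE : IsIso ((tildeAdj E).counit.app (G.over E)) := isIso_counit_of_isTilde (hG E ‹_›)
  obtain ⟨τ, hτ⟩ : ∃ τ : G.over E ⟶ (pushOver hf E).obj H, (Γt E).map τ = ModuleCat.ofHom ℓ :=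
    ⟨_, @map_inv_counit_homEquiv _ _ _ _ _ _ (tildeAdj E) _ _ hcE (ModuleCat.ofHom ℓ)⟩
  let k := (pullOverEquiv hf G E H).symm τ
  have hlc : ∀ c : P →₀ A, lc (mr c) = (show secP (M.over W).val (top W) from
      unitS hf G E (Finsupp.linearCombination A id c)) := fun c => by
    induction c using Finsupp.induction_linear with
    | zero =>
      rw [map_zero, map_zero, map_zero]
      exact (map_zero (unitS hf G E)).symm
    | add a b ha hb =>
      rw [map_add, map_add, map_add, ha, hb]
      exact (map_add (unitS hf G E) _ _).symm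
    | single m a =>
      change lc (Finsupp.mapRange ρ ρ.map_zero (Finsupp.single m a)) = _
      rw [Finsupp.mapRange_single, Finsupp.linearCombination_single, Finsupp.linearCombination_single]
      exact (unitS_smul hf G E a m).symm
  have hkr : k ≫ r = 𝟙 _ := by
    apply (pullOverEquiv hf G E _).injective
    rw [← sub_eq_zero]
    refine eq_zero_of_top (hG E ‹_›) _ fun m => ?_
    have h1 : appP (pullOverEquiv hf G E H k).val (top E) m = appP k.val W' (unitS hf G E m) :=
      pullOverEquiv_top hf G E H k m
    rw [Equiv.apply_symm_apply] at h1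
    have h2 : appP k.val W' (unitS hf G E m) = resP H.val (toTop W') (η (mr (s m))) :=
      h1.symm.trans (congrArg (fun φ => φ m) hτ)
    have h3 : ∀ n : sec M W, resP (M.over W).val (toTop W') (show secP (M.over W).val (top W) from n) =
        (show secP (M.over W).val W' from n) := fun n => by
      change res M W'.hom n = n
      rw [res_congr M hW]
      exact congrArg (fun φ => φ n) (M.val.presheaf.map_id (op W))
    change appP (pullOverEquiv hf G E _ (k ≫ r)).val (top E) m - appP (pullOverEquiv hf G E _ (𝟙 _)).val (top E) m = 0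
    rw [sub_eq_zero]
    refine (pullOverEquiv_top hf G E _ _ m).trans (Eq.trans ?_ (pullOverEquiv_top hf G E _ _ m).symm)
    change appP r.val W' (appP k.val W' (unitS hf G E m)) = (show secP (M.over W).val W' from unitS hf G E m)
    rw [h2, appP_natural]
    refine (congrArg (resP (M.over W).val (toTop W')) ((hrη _).trans ((hlc _).trans ?_))).trans (h3 _)
    exact congrArg _ (LinearMap.congr_fun hs m)
  let Nz := Ring Z.left ⊗[B] (P →₀ B)
  haveI : Module.Free (Ring Z.left) Nz := inferInstance
  let tu : Nz →ₗ[Ring Z.left] secP H.val Z :=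
    { toFun := fun x => appP (tildeUnit (P →₀ B)) Z x
      map_add' := map_add ((tildeUnit (E₀ := W) (P →₀ B)).app (op Z)).hom
      map_smul' := map_smul ((tildeUnit (E₀ := W) (P →₀ B)).app (op Z)).hom }
  haveI : Module.Projective (Ring Z.left) (secP H.val Z) :=
    Module.Projective.of_equiv' (LinearEquiv.ofBijective tu (bijective_tildeUnit (P →₀ B) Z))
  let i₁ : sec M Z.left →ₗ[Ring Z.left] secP H.val Z :=
    { toFun := fun x => appP k.val Z x
      map_add' := map_add (k.val.app (op Z)).hom
      map_smul' := map_smul (k.val.app (op Z)).hom }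
  let p₁ : secP H.val Z →ₗ[Ring Z.left] sec M Z.left :=
    { toFun := fun x => appP r.val Z x
      map_add' := map_add (r.val.app (op Z)).hom
      map_smul' := map_smul (r.val.app (op Z)).hom }
  exact Module.Projective.of_split i₁ p₁ (LinearMap.ext fun x =>
    congrArg (fun φ : M.over W ⟶ M.over W => appP φ.val Z x) hkr)

theorem projective_pull (hX : IsAlgSpace X) (hY : IsAlgSpace Y) (hG : BC G) (hP : BC ((pullModEt hf).obj G))
    (h : ∀ E : EtOver Y, IsAffine E.obj.left.left → Module.Projective (Ring E) (sec G E))
    (E' : EtOver X) [IsAffine E'.obj.left.left] :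
    Module.Projective (Ring E') (sec ((pullModEt hf).obj G) E') := by
  let I := Σ' (E : EtOver Y) (_ : IsAffine E.obj.left.left) (V : (EtOver.bcObj hf E).obj.left.left.Opens),
    IsAffineOpen V
  refine projective_sec_of_local hX _ hP (fun i : I => openObj (EtOver.bcObj hf i.1) i.2.2.1)
    (fun i => i.2.2.2) (fun x => ?_) (fun i => ?_) E'
  · obtain ⟨W, hW, w, rfl⟩ := exists_chart hX x
    obtain ⟨E, hE, v, hv⟩ := exists_chart hY (Points.map f (Points.ofPt W.obj.hom w))
    obtain ⟨z, -, hz⟩ := exists_point_bcObj hf W w E v hv.symm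
    obtain ⟨V, hV, hzV, -⟩ := exists_isAffineOpen_mem_and_subset
      (X := (EtOver.bcObj hf E).obj.left.left) (x := z) (U := ⊤) trivial
    refine ⟨⟨E, hE, V, hV⟩, ⟨z, hzV⟩, ?_⟩
    rw [← hz]
    exact ofPt_hom (openHom (EtOver.bcObj hf E) V) (⟨z, hzV⟩ : V)
  · haveI := i.2.1
    haveI : IsAffine (Over.mk (openHom (EtOver.bcObj hf i.1) i.2.2.1) : Over ((EtOver.bc hf).obj i.1)).left.obj.left.left :=
      i.2.2.2
    exact projective_sec_pull hf G hG i.1 (h i.1 i.2.1) (Over.mk (openHom (EtOver.bcObj hf i.1) i.2.2.1))

end ProjPullEtLib
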